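import Cfsg.Agent.Lib.BenderConsumers23.Structure
import Cfsg.Agent.Lib.BenderSuzuki.Main
import Cfsg.Agent.S0016

/-!
# Strongly embedded subgroups: double transitivity and the odd core (rows 1220, 1221)

`row1220` and `row1221` are conditional only on part I of the Bender–Suzuki theorem.
-/

set_option autoImplicit false
set_option linter.style.haveILetI false

universe u

namespace Cfsg.Agent.Lib.StrongEmb10

open MulAction Cfsg.Agent.Lib.Involutions.StronglyEmbedded Cfsg.Agent.Lib.Involutions.Basic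
open Cfsg.Agent.Lib.BenderConsumers23 Cfsg.Agent.Lib.RankOne.Basic
open Cfsg.Agent.Lib.BenderSuzuki (TwoRank)

variable {G : Type u} [Group G] [Finite G] {H : Subgroup G}

/-- Without two commuting involutions `G = O(G) H`. -/
theorem oddCore_sup_eq_top (hH : Cfsg.IsStronglyEmbedded H) (h : ¬ TwoRank G) :
    Cfsg.oddCore G ⊔ H = ⊤ := by
  haveI : Fact (Nat.Prime 2) := ⟨Nat.prime_two⟩
  obtain ⟨t, ht⟩ := exists_prime_orderOf_dvd_card' (G := H) 2 (even_iff_two_dvd.1 hH.2.1)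
  have ht2 : orderOf (t : G) = 2 := by rw [Subgroup.orderOf_coe, ht]
  have h1 := sup_centralizer_of_iso (iso_of_not_twoRank h ht2)
  rw [eq_top_iff, ← h1]
  exact sup_le_sup_left (centralizer_le hH ht2 t.2) _

/-- **Row 1220**, given part I. -/
theorem row1220 (hP : PropPartOne.{u}) (hH : Cfsg.IsStronglyEmbedded H) :
    (∀ g₁ g₂ : G, g₁ ∉ H → g₂ ∉ H → ∃ h ∈ H, g₂⁻¹ * (h * g₁) ∈ H) ∨
      ((∀ S : Sylow 2 G, IsCyclic S ∨ ∃ m : ℕ, 1 ≤ m ∧ Nonempty ((S : Subgroup G) ≃* QuaternionGroup (2 ^ m))) ∧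
        Cfsg.oddCore G ⊔ H = ⊤) := by
  by_cases h2 : TwoRank G
  · left
    obtain ⟨hH', h2', hc⟩ := quotient_oddCore hH h2
    set π := QuotientGroup.mk' (Cfsg.oddCore G)
    obtain ⟨t, Q, hS⟩ := hP _ _ hH' h2' hc
    have hback : ∀ g : G, π g ∈ H.map π → g ∈ H := by
      rintro g ⟨y, hy, hyg⟩
      have := H.mul_mem hy (oddCore_le hH h2 (QuotientGroup.eq.1 hyg))
      rwa [mul_inv_cancel_left] at this
    intro g₁ g₂ h₁ h₂
    have hne : ∀ g : G, g ∉ H → ((1 : G ⧸ Cfsg.oddCore G) : (G ⧸ Cfsg.oddCore G) ⧸ H.map π) ≠ (π g : _) :=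
      fun g hg e => hg (hback g (by simpa using QuotientGroup.eq.1 e))
    obtain ⟨x', hx1, hx2⟩ := MulAction.is_two_pretransitive_iff.1 hS.two_transitive (hne g₁ h₁) (hne g₂ h₂)
    obtain ⟨x, hxπ⟩ : ∃ x, π x = x' := QuotientGroup.mk'_surjective _ x'
    rw [← hxπ] at hx1 hx2
    rw [MulAction.Quotient.smul_coe, smul_eq_mul, QuotientGroup.eq] at hx1 hx2
    refine ⟨x, ?_, ?_⟩
    · have : x⁻¹ ∈ H := hback _ (by simpa using hx1)
      simpa using H.inv_mem this
    · have : (x * g₁)⁻¹ * g₂ ∈ H := hback _ (by simpa using hx2)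
      simpa using H.inv_mem this
  · right
    refine ⟨fun S => ?_, oddCore_sup_eq_top hH h2⟩
    haveI : Fact (Nat.Prime 2) := ⟨Nat.prime_two⟩
    have huniq : ∀ U V : Subgroup (S : Subgroup G), Nat.card U = 2 → Nat.card V = 2 → U = V := by
      intro U V hU hV
      have key : ∀ x y : (S : Subgroup G), orderOf x = 2 → orderOf y = 2 → x = y := by
        intro x y hx hy
        haveI : Nontrivial (S : Subgroup G) := ⟨⟨x, 1, fun e => invol_ne_one hx e⟩⟩
        haveI := S.isPGroup'.center_nontrivial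
        obtain ⟨m, hm, hcard⟩ :=
          (S.isPGroup'.to_subgroup (Subgroup.center (S : Subgroup G))).nontrivial_iff_card.1 inferInstance
        obtain ⟨z, hz⟩ := exists_prime_orderOf_dvd_card' (G := Subgroup.center (S : Subgroup G)) 2
          (hcard ▸ dvd_pow_self 2 hm.ne')
        have hz2 : orderOf ((z : (S : Subgroup G)) : G) = 2 := by
          rw [Subgroup.orderOf_coe, Subgroup.orderOf_coe, hz]
        have hco : ∀ w : (S : Subgroup G), orderOf w = 2 → (w : G) = (z : (S : Subgroup G)) := fun w hw =>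
          eq_of_not_twoRank h2 (by rw [Subgroup.orderOf_coe, hw]) hz2
            (congrArg Subtype.val (Subgroup.mem_center_iff.1 z.2 w))
        exact Subtype.ext ((hco x hx).trans (hco y hy).symm)
      obtain ⟨u, hu⟩ := exists_prime_orderOf_dvd_card' (G := U) 2 (by rw [hU])
      obtain ⟨v, hv⟩ := exists_prime_orderOf_dvd_card' (G := V) 2 (by rw [hV])
      have huv := key u v (by rw [Subgroup.orderOf_coe, hu]) (by rw [Subgroup.orderOf_coe, hv])
      have e1 : Subgroup.zpowers ((u : U) : (S : Subgroup G)) = U :=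
        Subgroup.eq_of_le_of_card_ge (Subgroup.zpowers_le.2 u.2)
          (by rw [Nat.card_zpowers, Subgroup.orderOf_coe, hu, hU])
      have e2 : Subgroup.zpowers ((v : V) : (S : Subgroup G)) = V :=
        Subgroup.eq_of_le_of_card_ge (Subgroup.zpowers_le.2 v.2)
          (by rw [Nat.card_zpowers, Subgroup.orderOf_coe, hv, hV])
      rw [← e1, ← e2, huv]
    rcases Cfsg.Agent.S0016.result 2 S.isPGroup' huniq with hc | ⟨-, m, ⟨e⟩⟩
    · exact .inl hc
    · rcases m with _ | m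
      · refine .inl ?_
        haveI : IsCyclic (QuaternionGroup (2 ^ 0)) := QuaternionGroup.quaternionGroup_one_isCyclic
        exact e.isCyclic.2 inferInstance
      · exact .inr ⟨m + 1, Nat.le_add_left 1 m, ⟨e⟩⟩

/-- In the core-free case with commuting involutions `O(H) = 1`. -/
theorem oddCore_eq_bot_of_coreFree (hP : PropPartOne.{u}) (hH : Cfsg.IsStronglyEmbedded H) (h2 : TwoRank G)
    (hc : H.normalCore = ⊥) : ∀ (K : Subgroup G), K ≤ H → (K.subgroupOf H).Normal → Odd (Nat.card K) → K = ⊥ := by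
  intro K hKH hKn hKodd
  obtain ⟨t, Q, hh, hgood⟩ := good hP BenderSuzuki.propMain hH h2 hc
  have hS := hh.setup
  have hst : stabilizer G ((1 : G) : G ⧸ H) = H := MulAction.stabilizer_quotient H
  rw [Subgroup.eq_bot_iff_forall]
  intro x hx
  have hKconj : ∀ h ∈ H, ∀ k ∈ K, h * k * h⁻¹ ∈ K := fun h hh' k hk =>
    hKn.conj_mem ⟨k, hKH hk⟩ hk ⟨h, hh'⟩
  have hdisj : ∀ k ∈ K, k ∈ Q → k = 1 := by
    intro k hk hkQ
    obtain ⟨j, hj⟩ := hgood.1 ⟨k, hkQ⟩
    have hj' : k ^ 2 ^ j = 1 := congrArg Subtype.val hj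
    obtain ⟨i, -, hi⟩ := (Nat.dvd_prime_pow Nat.prime_two).1 (orderOf_dvd_of_pow_eq_one hj')
    have hodd : Odd (orderOf k) := hKodd.of_dvd_nat (Subgroup.orderOf_dvd_natCard _ hk)
    rw [hi] at hodd
    rcases i with _ | i
    · exact orderOf_eq_one_iff.1 hi
    · exact absurd hodd (by simp [← Nat.not_even_iff_odd, Nat.even_pow])
  have hcomm : ∀ q ∈ Q, x * q = q * x := by
    intro q hq
    have hqH : q ∈ H := hst ▸ hS.le hq
    have h1 : x * q * x⁻¹ * q⁻¹ ∈ Q :=
      Q.mul_mem (hS.conj_mem x (hst.symm ▸ hKH hx) q hq) (Q.inv_mem hq)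
    have h2' : x * q * x⁻¹ * q⁻¹ ∈ K := by
      have := K.mul_mem hx (hKconj q hqH _ (K.inv_mem hx))
      simpa [mul_assoc] using this
    have := hdisj _ h2' h1
    rw [mul_inv_eq_one] at this
    exact mul_inv_eq_iff_eq_mul.1 this
  obtain ⟨q, hq, d, hd, hqd⟩ : ∃ q ∈ Q, ∃ d ∈ twoStab G ((1 : G) : G ⧸ H) t, x = q * d := by
    obtain ⟨q, hq, d, hd, e⟩ := exists_Q_D hS (show x • ((1 : G) : G ⧸ H) = ((1 : G) : G ⧸ H) from
      (hst.symm ▸ hKH hx : x ∈ stabilizer G ((1 : G) : G ⧸ H)))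
    exact ⟨q, hq, d, hd, e⟩
  -- `d` acts on `Q` as an inner automorphism
  have hdc : ∀ i : ℕ, ∀ r ∈ Q, d ^ i * r * (d ^ i)⁻¹ = (q ^ i)⁻¹ * r * q ^ i := by
    intro i
    induction i with
    | zero => intro r _; simp
    | succ i ih =>
      intro r hr
      have hd' : ∀ r' ∈ Q, d * r' * d⁻¹ = q⁻¹ * r' * q := fun r' hr' => by
        have e : d = q⁻¹ * x := by rw [hqd]; group
        rw [e]
        calc q⁻¹ * x * r' * (q⁻¹ * x)⁻¹ = q⁻¹ * (x * r') * x⁻¹ * q := by group
          _ = q⁻¹ * r' * q := by rw [hcomm r' hr']; group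
      have hmem : q⁻¹ * r * q ∈ Q := Q.mul_mem (Q.mul_mem (Q.inv_mem hq) hr) hq
      calc d ^ (i + 1) * r * (d ^ (i + 1))⁻¹ = d ^ i * (d * r * d⁻¹) * (d ^ i)⁻¹ := by
            rw [pow_succ]; group
        _ = (q ^ i)⁻¹ * (q⁻¹ * r * q) * q ^ i := by rw [hd' r hr, ih _ hmem]
        _ = (q ^ (i + 1))⁻¹ * r * q ^ (i + 1) := by rw [pow_succ']; group
  set m := Nat.card Q
  have hm : d ^ m = 1 := by
    haveI := faithfulSMul_quotient hc
    refine eq_of_smul_eq_smul fun c : G ⧸ H => ?_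
    rw [one_smul]
    have hdm : d ^ m ∈ twoStab G ((1 : G) : G ⧸ H) t := pow_mem hd _
    obtain ⟨hfa, hfb⟩ := mem_twoStab.1 hdm
    by_cases hca : c = ((1 : G) : G ⧸ H)
    · rw [hca]; exact hfa
    obtain ⟨r, hr, hrc⟩ := Q_trans hS (t_smul_ne hS) hca
    have hqm : q ^ m = 1 := congrArg Subtype.val (pow_card_eq_one' (x := (⟨q, hq⟩ : Q)))
    have e := hdc m r hr
    rw [hqm, inv_one, one_mul, mul_one, mul_inv_eq_iff_eq_mul] at e
    rw [← hrc, ← mul_smul, e, mul_smul, hfb]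
  have hd1 : d = 1 := by
    haveI : Fact (Nat.Prime 2) := ⟨Nat.prime_two⟩
    obtain ⟨j, hj⟩ := hgood.1.exists_card_eq
    obtain ⟨i, -, hi⟩ := (Nat.dvd_prime_pow Nat.prime_two).1
      (show orderOf d ∣ 2 ^ j from (orderOf_dvd_of_pow_eq_one hm).trans hj.dvd)
    have hodd : Odd (orderOf d) := hS.odd_card.of_dvd_nat (Subgroup.orderOf_dvd_natCard _ hd)
    rw [hi] at hodd
    rcases i with _ | i
    · exact orderOf_eq_one_iff.1 hi
    · exact absurd hodd (by simp [← Nat.not_even_iff_odd, Nat.even_pow])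
  refine hdisj x hx ?_
  rw [hqd, hd1, mul_one]
  exact hq

/-- **Row 1221**, given part I. -/
theorem row1221 (hP : PropPartOne.{u}) (hH : Cfsg.IsStronglyEmbedded H) :
    (Cfsg.oddCore ↥H).map H.subtype ≤ Cfsg.oddCore G := by
  classical
  set K := (Cfsg.oddCore ↥H).map H.subtype with hK
  have hKH : K ≤ H := Subgroup.map_subtype_le _
  have hKodd : Odd (Nat.card K) := by
    rw [hK, Subgroup.card_map_of_injective H.subtype_injective]
    exact ZStar.Elements.oddCore_odd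
  have hKn : (K.subgroupOf H).Normal := by
    rw [hK, Subgroup.subgroupOf, Subgroup.comap_map_eq_self_of_injective H.subtype_injective]
    unfold Cfsg.oddCore
    infer_instance
  set π := QuotientGroup.mk' (Cfsg.oddCore G) with hπ
  have hKπodd : Odd (Nat.card (K.map π)) := hKodd.of_dvd_nat (Subgroup.card_map_dvd _ _)
  have hnn : ((K.map π).subgroupOf (H.map π)).Normal := by
    refine ⟨fun k hk h => ?_⟩
    rw [Subgroup.mem_subgroupOf] at hk ⊢
    obtain ⟨k', hk', hke⟩ := hk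
    obtain ⟨h', hh', hhe⟩ := h.2
    refine ⟨h' * k' * h'⁻¹, hKn.conj_mem ⟨k', hKH hk'⟩ hk' ⟨h', hh'⟩, ?_⟩
    rw [map_mul, map_mul, map_inv, hhe, hke]
    rfl
  suffices hbot : K.map π = ⊥ by
    intro x hx
    have : π x ∈ K.map π := Subgroup.mem_map_of_mem π hx
    rw [hbot, Subgroup.mem_bot] at this
    exact (QuotientGroup.eq_one_iff x).1 this
  by_cases h2 : TwoRank G
  · obtain ⟨hH', h2', hc⟩ := quotient_oddCore hH h2
    exact oddCore_eq_bot_of_coreFree hP hH' h2' hc (K.map π) (Subgroup.map_mono hKH) hnn hKπodd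
  · have htop : H.map π = ⊤ := by
      have h1 := congrArg (Subgroup.map π) (oddCore_sup_eq_top hH h2)
      rw [Subgroup.map_sup, Subgroup.map_top_of_surjective _ (QuotientGroup.mk'_surjective _),
        (Subgroup.map_eq_bot_iff _).2 (by rw [hπ, QuotientGroup.ker_mk']), bot_sup_eq] at h1
      exact h1
    have hn' : (K.map π).Normal := by
      refine ⟨fun k hk g => ?_⟩
      have hg : g ∈ H.map π := htop.symm ▸ Subgroup.mem_top g
      exact hnn.conj_mem ⟨k, Subgroup.map_mono hKH hk⟩ hk ⟨g, hg⟩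
    exact ZStar.Elements.quotient_oddCore (K.map π) hn' hKπodd

end Cfsg.Agent.Lib.StrongEmb10
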