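import Cfsg.Agent.Lib.BenderConsumers23.Structure
import Cfsg.Agent.Lib.Involutions.IndexTwo

/-!
# Centralizers of elements inverted in a two-point stabilizer (row 1223)

`row1223` is conditional only on part I of the Bender–Suzuki theorem.
-/

set_option autoImplicit false
set_option linter.style.haveILetI false

universe u

namespace Cfsg.Agent.Lib.StrongEmb10

open MulAction Cfsg.Agent.Lib.Involutions.StronglyEmbedded Cfsg.Agent.Lib.Involutions.Basic
open Cfsg.Agent.Lib.BenderConsumers23 Cfsg.Agent.Lib.RankOne.Basic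
open Cfsg.Agent.Lib.BenderSuzuki (TwoRank)

variable {G : Type u} [Group G] [Finite G] {H : Subgroup G}

/-- **Row 1223**, given part I. -/
theorem row1223 (hP : PropPartOne.{u}) (hH : Cfsg.IsStronglyEmbedded H) (hcore : H.normalCore = ⊥)
    (w : G) (hw : orderOf w = 2) (hwH : w ∉ H) (j : G)
    (hj : j ∈ (H ⊓ H.map (MulAut.conj w).toMonoidHom)) (hj1 : j ≠ 1) (hinv : w * j * w⁻¹ = j⁻¹) :
    Odd (Nat.card (Subgroup.centralizer ({j} : Set G))) := by
  classical
  haveI : Fact (Nat.Prime 2) := ⟨Nat.prime_two⟩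
  rw [odd_card_iff_no_invol]
  intro s hs hs2
  have hsj : s * j = j * s := Subgroup.mem_centralizer_singleton_iff.1 hs
  have hss := invol_mul_self hs2
  by_cases h2 : TwoRank G
  · obtain ⟨t, Q, hS⟩ := hP G H hH h2 hcore
    set a : G ⧸ H := ((1 : G) : G ⧸ H) with ha
    have hst : stabilizer G a = H := MulAction.stabilizer_quotient H
    have hwa : w • a ≠ a := fun e => hwH (hst ▸ (mem_stabilizer_iff.2 e))
    have hD : stabilizer G a ⊓ stabilizer G (w • a) = H ⊓ H.map (MulAut.conj w).toMonoidHom := by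
      rw [stabilizer_smul_eq_stabilizer_map_conj, hst]
    -- the set-up with `w` in place of `t`
    have hW : Cfsg.IsRankOneSetup G (G ⧸ H) a w Q :=
      { two_transitive := hS.two_transitive
        mul_self := invol_mul_self hw
        ne_one := invol_ne_one hw
        not_mem := hwa
        le := hS.le
        conj_mem := hS.conj_mem
        inf_eq_bot := by
          rw [Subgroup.eq_bot_iff_forall]
          exact fun x hx => Q_free hS hx.1 hwa hx.2
        sup_eq := by
          refine le_antisymm (sup_le hS.le inf_le_left) fun g hg => ?_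
          obtain ⟨q, hq, hqw⟩ := Q_trans hS (c := w • a) (d := g • w • a) hwa
            (fun e => hwa (smul_left_cancel g (e.trans hg.symm)))
          have hd : q⁻¹ * g ∈ stabilizer G a ⊓ stabilizer G (w • a) := by
            refine Subgroup.mem_inf.2 ⟨Subgroup.mul_mem _ (Subgroup.inv_mem _ (hS.le hq)) hg, ?_⟩
            rw [mem_stabilizer_iff, mul_smul, ← hqw, inv_smul_smul]
          rw [show g = q * (q⁻¹ * g) by group]
          exact Subgroup.mul_mem_sup hq hd
        even_card := hS.even_card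
        odd_card := by rw [hD]; exact hH.2.2 w hwH }
    have hk : j ∈ Cfsg.invertedBy (twoStab G a w) w := ⟨by rw [twoStab, hD]; exact hj, hinv⟩
    obtain ⟨hja, hjb⟩ := mem_twoStab.1 hk.1
    have hjs : ∀ c : G ⧸ H, j • c = c → j • (s • c) = s • c := fun c hc => by
      rw [← mul_smul, ← hsj, mul_smul, hc]
    have hnot : ∀ c d : G ⧸ H, j • c = c → j • d = d → c ≠ d → ∀ e, j • e = e → e = c ∨ e = d := by
      intro c d hc hd hcd e he
      by_contra hne
      push Not at hne
      exact hj1 (inverted_fix_three hW hk ⟨e, c, d, hne.1, hne.2, hcd, he, hc, hd⟩)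
    by_cases hsa : s • a = a
    · rcases hnot a (w • a) hja hjb (Ne.symm hwa) _ (hjs _ hjb) with e | e
      · exact hwa (smul_left_cancel s (e.trans hsa.symm))
      · exact invol_ne_one hs2 (RankOne.Involution.eq_one_of_sq hW.odd_card (mem_twoStab.2 ⟨hsa, e⟩) hss)
    · have hsab : s • a = w • a := (hnot a (w • a) hja hjb (Ne.symm hwa) _ (hjs _ hja)).resolve_left hsa
      obtain ⟨c, hc, huniq⟩ := exists_fixed hW (invol_ne_one hs2) hss
      -- `j` fixes the fixed point of `s`
      have hjc : j • c = c := huniq _ (by rw [← mul_smul, hsj, mul_smul, hc])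
      rcases hnot a (w • a) hja hjb (Ne.symm hwa) c hjc with e | e
      · exact hsa (e ▸ hc)
      · refine hwa ?_
        have hh : s • (s • a) = s • a := by rw [hsab]; exact e ▸ hc
        rw [← mul_smul, hss, one_smul] at hh
        rw [← hsab, ← hh]
  · -- a 2-group through `w` inside the normalizer of `C(j)`
    set C := Subgroup.centralizer ({j} : Set G) with hC
    have hwj : ∀ x ∈ C, w * x * w⁻¹ ∈ C := by
      intro x hx
      have hxj := Subgroup.mem_centralizer_singleton_iff.1 hx
      have hxj' : x * j⁻¹ = j⁻¹ * x := ((show Commute x j from hxj).inv_right).eq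
      refine Subgroup.mem_centralizer_singleton_iff.2 ?_
      have hwj' : w * j⁻¹ * w⁻¹ = j := by
        rw [show w * j⁻¹ * w⁻¹ = (w * j * w⁻¹)⁻¹ by group, hinv, inv_inv]
      calc w * x * w⁻¹ * j = w * x * w⁻¹ * (w * j⁻¹ * w⁻¹) := by rw [hwj']
        _ = w * (x * j⁻¹) * w⁻¹ := by group
        _ = w * (j⁻¹ * x) * w⁻¹ := by rw [hxj']
        _ = w * j⁻¹ * w⁻¹ * (w * x * w⁻¹) := by group
        _ = j * (w * x * w⁻¹) := by rw [hwj']
    have hwN : w ∈ Subgroup.normalizer (C : Set G) := by
      refine Subgroup.mem_normalizer_iff.2 fun x => ⟨hwj x, fun hx => ?_⟩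
      have := hwj _ hx
      rw [invol_inv hw] at this
      rwa [show w * (w * x * w) * w = w * w * x * (w * w) by group, invol_mul_self hw, one_mul, mul_one] at this
    obtain ⟨T⟩ : Nonempty (Sylow 2 C) := inferInstance
    set N := Subgroup.normalizer (C : Set G) with hN
    have hCN : C ≤ N := Subgroup.le_normalizer
    haveI : (C.subgroupOf N).Normal := Subgroup.normal_in_normalizer
    obtain ⟨R, hR⟩ := (IsPGroup.of_card (p := 2) (n := 1)
      (by rw [Nat.card_zpowers, Subgroup.orderOf_mk, hw, pow_one] :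
        Nat.card (Subgroup.zpowers (⟨w, hwN⟩ : N)) = 2 ^ 1)).exists_le_sylow
    -- an involution of `C` in `R`
    have hsN : s ∈ N := hCN hs
    obtain ⟨R', hR'⟩ := (IsPGroup.of_card (p := 2) (n := 1)
      (by rw [Nat.card_zpowers, Subgroup.orderOf_mk, hs2, pow_one] :
        Nat.card (Subgroup.zpowers (⟨s, hsN⟩ : N)) = 2 ^ 1)).exists_le_sylow
    obtain ⟨g, hg⟩ := MulAction.exists_smul_eq N R' R
    have hgs : g * ⟨s, hsN⟩ * g⁻¹ ∈ (R : Subgroup N) := by
      rw [← hg, Sylow.coe_subgroup_smul]
      exact Subgroup.smul_mem_pointwise_smul _ (MulAut.conj g) _ (hR' (Subgroup.mem_zpowers _))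
    have hgsC : (g : G) * s * (g : G)⁻¹ ∈ C :=
      (Subgroup.mem_normalizer_iff.1 g.2 s).1 hs
    haveI : Nontrivial (R : Subgroup N) := ⟨⟨⟨_, hR (Subgroup.mem_zpowers _)⟩, 1, fun e => invol_ne_one hw
      (congrArg (fun z : (R : Subgroup N) => ((z : N) : G)) e)⟩⟩
    haveI := R.isPGroup'.center_nontrivial
    obtain ⟨m, hm, hcard⟩ :=
      (R.isPGroup'.to_subgroup (Subgroup.center (R : Subgroup N))).nontrivial_iff_card.1 inferInstance
    obtain ⟨z, hz⟩ := exists_prime_orderOf_dvd_card' (G := Subgroup.center (R : Subgroup N)) 2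
      (hcard ▸ dvd_pow_self 2 hm.ne')
    have hz2 : orderOf (((z : (R : Subgroup N)) : N) : G) = 2 := by
      rw [Subgroup.orderOf_coe, Subgroup.orderOf_coe, Subgroup.orderOf_coe, hz]
    have hco : ∀ r : (R : Subgroup N), orderOf ((r : N) : G) = 2 → ((r : N) : G) = (z : (R : Subgroup N)) :=
      fun r hr => eq_of_not_twoRank h2 hr hz2
        (congrArg (fun y : (R : Subgroup N) => ((y : N) : G)) (Subgroup.mem_center_iff.1 z.2 r))
    have e1 : w = (g : G) * s * (g : G)⁻¹ :=
      (hco ⟨_, hR (Subgroup.mem_zpowers _)⟩ hw).trans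
        (hco ⟨_, hgs⟩ ((orderOf_conj_eq (g : G) s).trans hs2)).symm
    have hwc : w * j = j * w := Subgroup.mem_centralizer_singleton_iff.1 (e1 ▸ hgsC)
    rw [hwc, mul_inv_cancel_right] at hinv
    have hj2 : orderOf j = 2 := invol_iff.2 ⟨by nth_rw 2 [hinv]; exact mul_inv_cancel j, hj1⟩
    exact (odd_card_iff_no_invol _).1 (hH.2.2 w hwH) j hj hj2

end Cfsg.Agent.Lib.StrongEmb10
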